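import Cfsg.Agent.PrimitiveStable.Normalizing

/-!
# Primitive pairs of characteristic `p` and their coset graph

Shared by the odd case (`Main.lean`) and by `Cfsg.Agent.PrimitivePairTwo`.
-/

set_option autoImplicit false
set_option linter.unusedSectionVars false

namespace CfsgLib.PrimitiveStable

open Subgroup
open scoped commutatorElement

variable {G : Type*} [Group G] {p : ℕ}

/-- Conjugate subgroup. -/
abbrev conjS (g : G) (H : Subgroup G) : Subgroup G := H.map (MulAut.conj g).toMonoidHom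

theorem mem_conjS {g x : G} {H : Subgroup G} : x ∈ conjS g H ↔ g⁻¹ * x * g ∈ H := by
  refine ⟨?_, fun h => ⟨g⁻¹ * x * g, h, by simp [mul_assoc]⟩⟩
  rintro ⟨y, hy, rfl⟩
  simpa [mul_assoc] using hy

theorem conjS_conjS (g h : G) (H : Subgroup G) : conjS g (conjS h H) = conjS (g * h) H := by
  rw [conjS, conjS, conjS, map_map]
  congr 1
  ext x
  simp [mul_assoc]

theorem conjS_of_mem {a : G} {H : Subgroup G} (h : a ∈ normalizer (H : Set G)) : conjS a H = H :=
  mem_normalizer_iff_map_conj_eq.1 h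

theorem normalizer_conjS {g x : G} {H : Subgroup G} :
    x ∈ normalizer (conjS g H : Set G) ↔ g⁻¹ * x * g ∈ normalizer (H : Set G) := by
  rw [conjS, ← map_equiv_normalizer_eq, mem_map]
  refine ⟨?_, fun h => ⟨g⁻¹ * x * g, h, by simp [mul_assoc]⟩⟩
  rintro ⟨y, hy, rfl⟩
  simpa [mul_assoc] using hy

/-- What is used about a vertex: group, `O_p`, chosen minimal normal subgroup. -/
structure Vertex (p : ℕ) (H Q Z : Subgroup G) : Prop where
  hQ : Q = (Cfsg.pCore p H).map H.subtype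
  self : centralizer (Cfsg.pCore p H : Set H) ≤ Cfsg.pCore p H
  zq : Z ≤ Q
  zne : Z ≠ ⊥
  zn : H ≤ normalizer (Z : Set G)
  zmin : ∀ A : Subgroup G, A ≤ Z → A ≠ ⊥ → H ≤ normalizer (A : Set G) → A = Z

theorem Vertex.conj [Finite G] {H Q Z : Subgroup G} (hv : Vertex p H Q Z) (g : G) :
    Vertex p (conjS g H) (conjS g Q) (conjS g Z) := by
  let e : H ≃* conjS g H := (H.equivMapOfInjective _ (MulAut.conj g).injective)
  have he : e.toMonoidHom.range = ⊤ := MonoidHom.range_eq_top.2 e.surjective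
  have hcore : Cfsg.pCore p (conjS g H) = (Cfsg.pCore p H).map e.toMonoidHom :=
    (PLocal.map_pCore_equiv e).symm
  refine ⟨?_, ?_, map_mono hv.zq, ?_, fun x hx => ?_, fun A hA hA0 hAn => ?_⟩
  · rw [hv.hQ, hcore, conjS, map_map, map_map]
    rfl
  · rw [hcore]
    intro x hx
    refine ⟨e.symm x, hv.self fun y hy => e.injective ?_, e.apply_symm_apply x⟩
    rw [map_mul, map_mul, e.apply_symm_apply]
    exact hx (e y) ⟨y, hy, rfl⟩
  · rw [Ne, Subgroup.map_eq_bot_iff_of_injective _ (MulAut.conj g).injective]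
    exact hv.zne
  · rw [normalizer_conjS]
    exact hv.zn (mem_conjS.1 hx)
  · have h1 : conjS g⁻¹ A = Z := by
      refine hv.zmin _ (fun y hy => ?_) ?_ fun y hy => ?_
      · have := hA (mem_conjS.1 hy)
        rw [mem_conjS] at this
        simpa [mul_assoc] using this
      · rw [Ne, Subgroup.map_eq_bot_iff_of_injective _ (MulAut.conj g⁻¹).injective]
        exact hA0
      · rw [normalizer_conjS, inv_inv]
        exact hAn (mem_conjS.2 (by simpa [mul_assoc] using hy))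
    rw [← h1, conjS_conjS, mul_inv_cancel, conjS_of_mem (one_mem _)]

namespace Vertex

variable [Finite G] [hp : Fact p.Prime] {H Q Z : Subgroup G} (hv : Vertex p H Q Z)
include hv

theorem q_le : Q ≤ H := hv.hQ ▸ map_subtype_le _

theorem z_le : Z ≤ H := hv.zq.trans hv.q_le

theorem q_isPGroup : IsPGroup p Q := hv.hQ ▸ (PLocal.isPGroup_pCore p H).map _

theorem q_norm : H ≤ normalizer (Q : Set G) := by
  rw [hv.hQ]
  intro h hh
  rw [mem_normalizer_iff]
  intro x
  constructor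
  · rintro ⟨y, hy, rfl⟩
    exact ⟨⟨h, hh⟩ * y * ⟨h, hh⟩⁻¹, (inferInstance : (Cfsg.pCore p H).Normal).conj_mem y hy _, rfl⟩
  · rintro ⟨y, hy, hxy⟩
    refine ⟨⟨h, hh⟩⁻¹ * y * ⟨h, hh⟩, ?_, ?_⟩
    · simpa using (inferInstance : (Cfsg.pCore p H).Normal).conj_mem y hy ⟨h, hh⟩⁻¹
    · show h⁻¹ * (H.subtype y) * h = x
      rw [hxy]; group

theorem z_comm : ∀ u ∈ Z, ∀ v ∈ Z, Commute u v := by
  haveI : Group.IsNilpotent Q := hv.q_isPGroup.isNilpotent
  have hn : (Z.subgroupOf Q).Normal :=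
    ⟨fun x hx g => (mem_normalizer_iff.1 (hv.zn (hv.q_le g.2)) (x : G)).1 hx⟩
  haveI := hn
  have hne : Z.subgroupOf Q ≠ ⊥ := by
    rw [Ne, subgroupOf_eq_bot, disjoint_iff, inf_of_le_left hv.zq]
    exact hv.zne
  obtain ⟨w, hw, hw1⟩ := (bot_or_exists_ne_one _).resolve_left (Solvable.inf_center_ne_bot hne)
  have hwA : (w : G) ∈ Z ⊓ centralizer (Q : Set G) :=
    ⟨hw.1, fun q hq => congrArg Subtype.val (mem_center_iff.1 hw.2 ⟨q, hq⟩)⟩
  have hA : Z ⊓ centralizer (Q : Set G) = Z := by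
    refine hv.zmin _ inf_le_left (fun h => hw1 (Subtype.ext (mem_bot.1 (h ▸ hwA)))) fun h hh => ?_
    rw [mem_normalizer_iff]
    intro x
    have h1 := mem_normalizer_iff.1 (hv.zn hh) x
    have h2 : x ∈ centralizer (Q : Set G) ↔ h * x * h⁻¹ ∈ centralizer (Q : Set G) := by
      have hq := hv.q_norm hh
      constructor
      · intro hx q hq'
        have := hx (h⁻¹ * q * h) (by simpa using (mem_normalizer_iff.1 (inv_mem hq) q).1 hq')
        calc q * (h * x * h⁻¹) = h * (h⁻¹ * q * h * x) * h⁻¹ := by group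
          _ = h * x * h⁻¹ * q := by rw [this]; group
      · intro hx q hq'
        have := hx (h * q * h⁻¹) ((mem_normalizer_iff.1 hq q).1 hq')
        calc q * x = h⁻¹ * (h * q * h⁻¹ * (h * x * h⁻¹)) * h := by group
          _ = x * q := by rw [this]; group
    simp only [mem_inf]
    exact and_congr h1 h2
  intro u hu v hv'
  rw [← hA] at hu
  exact (hu.2 v (hv.zq hv')).symm

end Vertex

/-- A primitive pair of characteristic `p`, indexed by `Bool`. -/
structure Pair (p : ℕ) (M Qs Zs : Bool → Subgroup G) : Prop where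
  vertex : ∀ b, Vertex p (M b) (Qs b) (Zs b)
  ne : M false ≠ M true
  qle : ∀ b, Qs b ≤ M (!b)
  prim : ∀ b, ∀ A : Subgroup G, A ≠ ⊥ → A ≤ M b ⊓ M (!b) → M b ≤ normalizer (A : Set G) →
    M (!b) ⊓ normalizer (A : Set G) = M b ⊓ M (!b)

/-- Adjacency of cosets. -/
def Adj (M : Bool → Subgroup G) (v w : Bool × G) : Prop :=
  w.1 = !v.1 ∧ ∃ a ∈ M v.1, ∃ c ∈ M w.1, v.2 * a = w.2 * c

theorem Adj.symm {M : Bool → Subgroup G} {v w : Bool × G} (h : Adj M v w) : Adj M w v := by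
  obtain ⟨h1, a, ha, c, hc, h2⟩ := h
  exact ⟨by rw [h1, Bool.not_not], c, hc, a, ha, h2.symm⟩

/-- Walks of given length. -/
def Walk (M : Bool → Subgroup G) : ℕ → Bool × G → Bool × G → Prop
  | 0, v, w => v = w
  | n + 1, v, w => ∃ u, Adj M v u ∧ Walk M n u w

theorem walk_succ_right {M : Bool → Subgroup G} :
    ∀ {n : ℕ} {v w : Bool × G}, Walk M (n + 1) v w ↔ ∃ u, Walk M n v u ∧ Adj M u w := by
  intro n
  induction n with
  | zero =>
    intro v w
    exact ⟨fun ⟨u, h, e⟩ => ⟨v, rfl, (show u = w from e) ▸ h⟩,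
      fun ⟨u, e, h⟩ => ⟨w, (show v = u from e) ▸ h, rfl⟩⟩
  | succ n ih =>
    intro v w
    constructor
    · rintro ⟨u, hvu, huw⟩
      obtain ⟨t, hut, htw⟩ := ih.1 huw
      exact ⟨t, ⟨u, hvu, hut⟩, htw⟩
    · rintro ⟨t, ⟨u, hvu, hut⟩, htw⟩
      exact ⟨u, hvu, ih.2 ⟨t, hut, htw⟩⟩

theorem Walk.symm {M : Bool → Subgroup G} :
    ∀ {n : ℕ} {v w : Bool × G}, Walk M n v w → Walk M n w v := by
  intro n
  induction n with
  | zero => intro v w h; exact (show v = w from h).symm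
  | succ n ih =>
    rintro v w ⟨u, hvu, huw⟩
    exact walk_succ_right.2 ⟨u, ih huw, hvu.symm⟩

theorem Walk.translate {M : Bool → Subgroup G} (g : G) :
    ∀ {n : ℕ} {v w : Bool × G}, Walk M n v w → Walk M n (v.1, g * v.2) (w.1, g * w.2) := by
  intro n
  induction n with
  | zero => intro v w h; rw [show v = w from h]; rfl
  | succ n ih =>
    rintro v w ⟨u, ⟨h1, a, ha, c, hc, h2⟩, huw⟩
    exact ⟨(u.1, g * u.2), ⟨h1, a, ha, c, hc, by simp only [mul_assoc, h2]⟩, ih huw⟩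

theorem Walk.append {M : Bool → Subgroup G} :
    ∀ {n m : ℕ} {u v w : Bool × G}, Walk M n u v → Walk M m v w → Walk M (n + m) u w := by
  intro n
  induction n with
  | zero => intro m u v w h h'; rw [show u = v from h, Nat.zero_add]; exact h'
  | succ n ih =>
    rintro m u v w ⟨t, hut, htv⟩ h'
    rw [Nat.add_right_comm]
    exact ⟨t, hut, ih htv h'⟩

namespace Pair

variable {M Qs Zs : Bool → Subgroup G} [Finite G] [hp : Fact p.Prime] (P : Pair p M Qs Zs)
include P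

theorem vert (v : Bool × G) : Vertex p (conjS v.2 (M v.1)) (conjS v.2 (Qs v.1)) (conjS v.2 (Zs v.1)) :=
  (P.vertex v.1).conj v.2

theorem absorb {b : Bool} {a : G} (ha : a ∈ M b) (g : G) :
    conjS (g * a) (M b) = conjS g (M b) ∧ conjS (g * a) (Qs b) = conjS g (Qs b) ∧
      conjS (g * a) (Zs b) = conjS g (Zs b) := by
  rw [← conjS_conjS, ← conjS_conjS, ← conjS_conjS, conjS_of_mem (le_normalizer ha),
    conjS_of_mem ((P.vertex b).q_norm ha), conjS_of_mem ((P.vertex b).zn ha)]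
  exact ⟨rfl, rfl, rfl⟩

theorem q_le_adj {v w : Bool × G} (h : Adj M v w) : conjS v.2 (Qs v.1) ≤ conjS w.2 (M w.1) := by
  obtain ⟨h1, a, ha, c, hc, h2⟩ := h
  rw [← (P.absorb ha v.2).2.1, ← (P.absorb hc w.2).1, h2, h1]
  exact map_mono (P.qle v.1)

theorem normalizer_inf_le {v w : Bool × G} (h : Adj M v w) :
    conjS w.2 (M w.1) ⊓ normalizer (conjS v.2 (Zs v.1) : Set G) ≤ conjS v.2 (M v.1) := by
  obtain ⟨h1, a, ha, c, hc, h2⟩ := h
  rw [← (P.absorb ha v.2).1, ← (P.absorb ha v.2).2.2, ← (P.absorb hc w.2).1, h2, h1]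
  rintro x ⟨hx1, hx2⟩
  have hL := P.prim v.1 (Zs v.1) (P.vertex v.1).zne
    (le_inf (P.vertex v.1).z_le ((P.vertex v.1).zq.trans (P.qle v.1))) (P.vertex v.1).zn
  have := hL.le ⟨mem_conjS.1 hx1, normalizer_conjS.1 hx2⟩
  exact mem_conjS.2 this.1

/-- The chosen subgroups cannot lie in all cores. -/
theorem false_of_z_le
    (hz : ∀ (n : ℕ) (v w : Bool × G), Walk M n v w → conjS v.2 (Zs v.1) ≤ conjS w.2 (Qs w.1)) : False := by
  let R : Set (Bool × G) := {w | ∃ n, Walk M n (false, 1) w}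
  have hbase : ∀ b, (b, (1 : G)) ∈ R := by
    rintro (_ | _)
    · exact ⟨0, rfl⟩
    · exact ⟨1, (true, 1), ⟨rfl, 1, one_mem _, 1, one_mem _, rfl⟩, rfl⟩
  have hmove : ∀ b, ∀ g ∈ M b, ∀ w ∈ R, (w.1, g * w.2) ∈ R := by
    rintro b g hg w ⟨n, hn⟩
    obtain ⟨k, hk⟩ := hbase b
    have hmid : Walk M 2 (b, (1 : G)) (b, g) :=
      ⟨(!b, (1 : G)), ⟨rfl, 1, one_mem _, 1, one_mem _, rfl⟩, (b, g),
        ⟨(Bool.not_not b).symm, 1, one_mem _, g⁻¹, inv_mem hg, by simp⟩, rfl⟩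
    have h2 := (hk.symm.append hn).translate g
    rw [mul_one] at h2
    exact ⟨_, (hk.append hmid).append h2⟩
  let D : Subgroup G := ⨅ w ∈ R, conjS w.2 (Qs w.1)
  have hDle : ∀ b, D ≤ Qs b := fun b => by
    refine (iInf₂_le (b, (1 : G)) (hbase b)).trans ?_
    rw [conjS_of_mem (one_mem _)]
  have hD0 : D ≠ ⊥ := by
    intro h
    refine (P.vertex false).zne (le_bot_iff.1 (h ▸ le_iInf₂ fun w hw => ?_))
    obtain ⟨n, hn⟩ := hw
    have := hz n (false, 1) w hn
    rwa [conjS_of_mem (one_mem _)] at this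
  have hDn : ∀ b, M b ≤ normalizer (D : Set G) := by
    intro b g hg
    have hle : ∀ h ∈ M b, ∀ x ∈ D, h * x * h⁻¹ ∈ D := by
      intro h hh x hx
      simp only [D, mem_iInf] at hx ⊢
      intro w hw
      have := hx (w.1, h⁻¹ * w.2) (hmove b h⁻¹ (inv_mem hh) w hw)
      rw [mem_conjS] at this ⊢
      simpa [mul_assoc] using this
    rw [mem_normalizer_iff]
    refine fun x => ⟨hle g hg x, fun hx => ?_⟩
    have := hle g⁻¹ (inv_mem hg) _ hx
    simpa [mul_assoc] using this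
  have key : ∀ b, M (!b) ≤ M b := fun b => by
    have hL := P.prim b D hD0 (le_inf ((hDle b).trans (P.vertex b).q_le) ((hDle b).trans (P.qle b)))
      (hDn b)
    rw [inf_of_le_left (hDn (!b))] at hL
    exact hL.le.trans inf_le_left
  exact P.ne (le_antisymm (key true) (key false))

end Pair

/-- A choice of minimal normal `p`-subgroup. -/
theorem exists_min [Finite G] {H Q : Subgroup G} (hQ : Q ≠ ⊥) (hn : H ≤ normalizer (Q : Set G)) :
    ∃ Z, Z ≤ Q ∧ Z ≠ ⊥ ∧ H ≤ normalizer (Z : Set G) ∧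
      ∀ A : Subgroup G, A ≤ Z → A ≠ ⊥ → H ≤ normalizer (A : Set G) → A = Z := by
  obtain ⟨Z, ⟨hZQ, hZ0, hZn⟩, hmin⟩ := (Set.toFinite
    {Z : Subgroup G | Z ≤ Q ∧ Z ≠ ⊥ ∧ H ≤ normalizer (Z : Set G)}).exists_minimalFor id _
      ⟨Q, le_rfl, hQ, hn⟩
  exact ⟨Z, hZQ, hZ0, hZn, fun A hA h0 hAn =>
    le_antisymm hA (hmin ⟨hA.trans hZQ, h0, hAn⟩ hA)⟩

end CfsgLib.PrimitiveStable
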