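import Cfsg.Agent.PLocal.Cores
import Cfsg.Agent.Solvable.Nilpotent

/-!
# Elements acting unipotently on a normal `p`-subgroup
-/

set_option autoImplicit false
set_option linter.unusedSectionVars false

namespace CfsgLib.PrimitiveStable

open Subgroup
open scoped commutatorElement

variable {M : Type*} [Group M] [Finite M] {p : ℕ} [hp : Fact p.Prime]

/-- An element acting unipotently on `V` lies in `O_p` when `C(V)` normalizes a `p`-subgroup containing it. -/
theorem mem_pCore_of_unipotent {V X : Subgroup M} [V.Normal] (hV : IsPGroup p V)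
    (hX : IsPGroup p X) (hCX : centralizer (V : Set M) ≤ normalizer (X : Set M)) {x : M} (hx : x ∈ X)
    (h : QuotientGroup.mk' (centralizer (V : Set M)) x ∈ Cfsg.pCore p (M ⧸ centralizer (V : Set M))) :
    x ∈ Cfsg.pCore p M := by
  classical
  set C := centralizer (V : Set M) with hCdef
  set K := (Cfsg.pCore p (M ⧸ C)).comap (QuotientGroup.mk' C) with hKdef
  set O := (Cfsg.pCore p C).map C.subtype with hO
  have hOp : IsPGroup p O := (PLocal.isPGroup_pCore p C).map _
  haveI : O.Normal := inferInstance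
  set π := QuotientGroup.mk' O
  haveI : (C.map π).Normal := (inferInstance : C.Normal).map _ (QuotientGroup.mk'_surjective O)
  haveI : (K.map π).Normal := (inferInstance : K.Normal).map _ (QuotientGroup.mk'_surjective O)
  set N := K.map π ⊓ centralizer (C.map π : Set (M ⧸ O)) with hNdef
  haveI : N.Normal := normal_inf_normal _ _
  -- `x` centralizes `C` modulo `O`
  have hxc : ∀ c ∈ C, ⁅c, x⁆ ∈ O := by
    intro c hc
    have h1 : ⁅c, x⁆ ∈ X := by
      rw [commutatorElement_def]
      exact mul_mem ((mem_normalizer_iff.1 (hCX hc) x).1 hx) (inv_mem hx)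
    have h2 : ⁅c, x⁆ ∈ C := by
      rw [commutatorElement_def, mul_assoc, mul_assoc]
      exact mul_mem hc (by
        have := (inferInstance : C.Normal).conj_mem _ (inv_mem hc) x
        simpa [mul_assoc] using this)
    haveI : ((X ⊓ C).subgroupOf C).Normal := by
      refine ⟨fun z hz g => ?_⟩
      exact ⟨(mem_normalizer_iff.1 (hCX g.2) (z : M)).1 hz.1, (g * z * g⁻¹).2⟩
    have hXC : (X ⊓ C).subgroupOf C ≤ Cfsg.pCore p C := PLocal.le_pCore
      ((hX.to_le inf_le_left).comap_of_injective C.subtype C.subtype_injective)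
    exact ⟨⟨⁅c, x⁆, h2⟩, hXC ⟨h1, h2⟩, rfl⟩
  have hπx : π x ∈ N := by
    refine ⟨mem_map_of_mem π h, ?_⟩
    rintro _ ⟨c, hc, rfl⟩
    rw [← commutatorElement_eq_one_iff_mul_comm, ← map_commutatorElement]
    exact (QuotientGroup.eq_one_iff _).2 (hxc c hc)
  -- `N` is nilpotent
  let f : N →* (M ⧸ O) ⧸ C.map π := (QuotientGroup.mk' (C.map π)).comp N.subtype
  have hker : f.ker ≤ center N := fun z hz => by
    rw [mem_center_iff]
    intro w
    have hz' : (z : M ⧸ O) ∈ C.map π := (QuotientGroup.eq_one_iff _).1 hz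
    exact Subtype.ext ((mem_centralizer_iff.1 w.2.2) z hz').symm
  have hrange : IsPGroup p f.range := by
    rintro ⟨_, z, rfl⟩
    obtain ⟨k, hk, hkz⟩ := z.2.1
    obtain ⟨e, he⟩ := PLocal.isPGroup_pCore p (M ⧸ C) ⟨_, hk⟩
    refine ⟨e, Subtype.ext ?_⟩
    rw [SubgroupClass.coe_pow, ← map_pow, OneMemClass.coe_one]
    refine (QuotientGroup.eq_one_iff _).2 ⟨k ^ p ^ e, ?_, ?_⟩
    · refine (QuotientGroup.eq_one_iff _).1 ?_
      exact congrArg Subtype.val he
    · rw [map_pow, hkz]; rfl
  haveI := hrange.isNilpotent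
  have hker' : f.rangeRestrict.ker ≤ center N := by rw [MonoidHom.ker_rangeRestrict]; exact hker
  haveI : Group.IsNilpotent N := Subgroup.isNilpotent_of_ker_le_center f.rangeRestrict hker'
  obtain ⟨P⟩ : Nonempty (Sylow p N) := inferInstance
  have hPn : (P : Subgroup N).Normal :=
    P.normal_of_normalizerCondition Group.normalizerCondition_of_isNilpotent
  haveI := P.characteristic_of_normal hPn
  set P' := (P : Subgroup N).map N.subtype
  haveI : P'.Normal := inferInstance
  -- `x` is a `p`-element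
  obtain ⟨e, he⟩ := hX ⟨x, hx⟩
  have hxP : π x ∈ P' := by
    refine ⟨⟨π x, hπx⟩, ?_, rfl⟩
    have hz : IsPGroup p (zpowers (⟨π x, hπx⟩ : N)) := by
      refine IsPGroup.of_card_dvd_pow (n := e) ?_
      rw [Nat.card_zpowers]
      refine orderOf_dvd_of_pow_eq_one (Subtype.ext ?_)
      show π x ^ p ^ e = 1
      rw [← map_pow, show x ^ p ^ e = 1 from congrArg Subtype.val he, map_one]
    obtain ⟨Q, hQ⟩ := hz.exists_le_sylow
    haveI := hPn
    have := Sylow.unique_of_normal P hPn
    exact (Subsingleton.elim Q P) ▸ hQ (mem_zpowers _)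
  have hpre : IsPGroup p (P'.comap π) := by
    refine (P.isPGroup'.map N.subtype).comap_of_ker_isPGroup _ ?_
    rw [QuotientGroup.ker_mk']
    exact hOp
  exact PLocal.le_pCore hpre hxP

end CfsgLib.PrimitiveStable
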