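import Cfsg.Agent.PLocal.PStability
import Cfsg.Agent.PrimitiveStable.Normalizing
import Cfsg.Agent.PLocal.Cores
import Cfsg.Agent.Solvable.Nilpotent

/-!
# Quadratic elements in a group of characteristic `p` with abelian Sylow 2-subgroups
-/

set_option autoImplicit false
set_option linter.unusedSectionVars false

namespace CfsgLib.PrimitiveStable

open Subgroup
open scoped commutatorElement

variable {M : Type*} [Group M] [Finite M] {p : ℕ} [hp : Fact p.Prime]

/-- An element acting on `V` with all commutators in a subgroup `B` that it centralizes is quadratic. -/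
theorem quadratic_of_le {V B : Subgroup M} {x : M}
    (hV : ∀ a ∈ V, ∀ y ∈ zpowers x, ⁅a, y⁆ ∈ B) (hc : ∀ u ∈ B, Commute u x) :
    ⁅⁅V, zpowers x⁆, zpowers x⁆ = ⊥ := by
  have h1 : ⁅V, zpowers x⁆ ≤ B := commutator_le.2 hV
  rw [eq_bot_iff]
  refine (commutator_mono h1 le_rfl).trans (commutator_le.2 fun u hu y hy => ?_)
  obtain ⟨j, rfl⟩ := mem_zpowers_iff.1 hy
  rw [mem_bot, commutatorElement_eq_one_iff_commute]
  exact (hc u hu).zpow_right j

variable (hp2 : p ≠ 2) (hab : ∀ T : Sylow 2 M, IsMulCommutative T)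
include hp2 hab

theorem stable (V : Subgroup M) [V.Normal] (hV : IsPGroup p V) : Cfsg.IsPStableOn p V := by
  refine PLocal.isPStableOn_of_no_section hp2
    (PLocal.not_hasSL2Section_of_abelian_sylow_two hp2 fun T => ?_) V hV
  let e : (⊤ : Subgroup M) ≃* M := Subgroup.topEquiv
  let T' : Sylow 2 M := T.mapSurjective (f := e.toMonoidHom) e.surjective
  have h := hab T'
  refine ⟨⟨fun u v => Subtype.ext (e.injective ?_)⟩⟩
  have h' := congrArg Subtype.val (h.is_comm.comm ⟨e u, ⟨u, u.2, rfl⟩⟩ ⟨e v, ⟨v, v.2, rfl⟩⟩)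
  show e ((u : (⊤ : Subgroup M)) * v) = e (v * u)
  rw [map_mul, map_mul]
  exact h'

/-- A quadratic element on a self-centralizing `O_p` lies in it. -/
theorem mem_pCore_of_quadratic (hC : centralizer (Cfsg.pCore p M : Set M) ≤ Cfsg.pCore p M) {x : M}
    (hq : ⁅⁅Cfsg.pCore p M, zpowers x⁆, zpowers x⁆ = ⊥) : x ∈ Cfsg.pCore p M := by
  have h := stable hp2 hab (Cfsg.pCore p M) (PLocal.isPGroup_pCore p M) x hq
  set C := centralizer (Cfsg.pCore p M : Set M) with hCdef
  have hK : IsPGroup p ((Cfsg.pCore p (M ⧸ C)).comap (QuotientGroup.mk' C)) := by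
    refine (PLocal.isPGroup_pCore p (M ⧸ C)).comap_of_ker_isPGroup _ ?_
    rw [QuotientGroup.ker_mk']
    exact (PLocal.isPGroup_pCore p M).to_le hC
  exact PLocal.le_pCore hK h

/-- On a minimal normal `p`-subgroup a quadratic element acts trivially. -/
theorem commute_of_quadratic {N : Subgroup M} [N.Normal] (hN : IsPGroup p N)
    (hmin : ∀ A : Subgroup M, A ≤ N → A ≠ ⊥ → A.Normal → A = N) {x : M}
    (hq : ⁅⁅N, zpowers x⁆, zpowers x⁆ = ⊥) : ∀ u ∈ N, Commute u x := by
  classical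
  rcases eq_or_ne N ⊥ with rfl | hne
  · intro u hu
    rw [mem_bot.1 hu]
    exact Commute.one_left x
  have h := stable hp2 hab N hN x hq
  set C := centralizer (N : Set M) with hCdef
  set π := QuotientGroup.mk' C
  set K := (Cfsg.pCore p (M ⧸ C)).comap π with hKdef
  have hCK : C ≤ K := fun c hc => by
    rw [mem_comap, show π c = 1 from (QuotientGroup.eq_one_iff c).2 hc]
    exact one_mem _
  -- the fixed points
  obtain ⟨P⟩ : Nonempty (Sylow p K) := inferInstance
  have hPK : ∀ k : K, ∃ q ∈ (P : Subgroup K), (q⁻¹ * k : K).1 ∈ C := by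
    intro k
    let f : K →* Cfsg.pCore p (M ⧸ C) := (π.comp K.subtype).codRestrict _ fun z => z.2
    have hf : Function.Surjective f := fun z => by
      obtain ⟨w, hw⟩ := QuotientGroup.mk'_surjective C z.1
      exact ⟨⟨w, show π w ∈ _ from hw.symm ▸ z.2⟩, Subtype.ext hw⟩
    have htop : (P.mapSurjective hf : Subgroup (Cfsg.pCore p (M ⧸ C))) = ⊤ :=
      (P.mapSurjective hf).3 (PLocal.isPGroup_pCore p (M ⧸ C) |>.to_subgroup ⊤) le_top |>.symm
    obtain ⟨q, hq, hqk⟩ : f k ∈ (P : Subgroup K).map f := by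
      have h1 := Subgroup.mem_top (f k)
      rw [← htop] at h1
      exact h1
    refine ⟨q, hq, (QuotientGroup.eq_one_iff _).1 ?_⟩
    show π ((q⁻¹ * k : K) : M) = 1
    have := congrArg Subtype.val hqk
    rw [Subgroup.coe_mul, map_mul, Subgroup.coe_inv, map_inv, inv_mul_eq_one]
    exact this
  set P' := (P : Subgroup K).map K.subtype with hP'
  have hP'p : IsPGroup p P' := P.isPGroup'.map _
  have hsup : IsPGroup p (P' ⊔ N : Subgroup M) :=
    hP'p.to_sup_of_normal_right hN
  haveI := hsup.isNilpotent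
  haveI : (N.subgroupOf (P' ⊔ N)).Normal := inferInstance
  have hne' : N.subgroupOf (P' ⊔ N) ≠ ⊥ := by
    rw [Ne, subgroupOf_eq_bot, disjoint_iff, inf_of_le_left le_sup_right]
    exact hne
  obtain ⟨w, hw, hw1⟩ := (bot_or_exists_ne_one _).resolve_left (Solvable.inf_center_ne_bot hne')
  let F := N ⊓ centralizer (K : Set M)
  have hwF : (w : M) ∈ F := by
    refine ⟨hw.1, fun k hk => ?_⟩
    obtain ⟨q, hq, hqk⟩ := hPK ⟨k, hk⟩
    have h1 : Commute (q : M) (w : M) := congrArg Subtype.val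
      (mem_center_iff.1 hw.2 ⟨(q : M), mem_sup_left ⟨q, hq, rfl⟩⟩)
    have h2 : Commute ((q⁻¹ * ⟨k, hk⟩ : K) : M) (w : M) :=
      ((mem_centralizer_iff.1 hqk) w hw.1).symm
    have := h1.mul_left h2
    rwa [Subgroup.coe_mul, Subgroup.coe_inv, mul_inv_cancel_left] at this
  have hFn : F.Normal := inferInstance
  have hF : F = N := hmin F inf_le_left (fun h0 => hw1 (Subtype.ext (mem_bot.1 (h0 ▸ hwF)))) hFn
  intro u hu
  exact ((hF.symm ▸ hu : u ∈ F).2 x h).symm

/-- The element lies in `O_p` when `C(V)` normalizes a `p`-subgroup containing it. -/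
theorem mem_pCore_of_normalizes {V X : Subgroup M} [V.Normal] (hV : IsPGroup p V)
    (hX : IsPGroup p X) (hCX : centralizer (V : Set M) ≤ normalizer (X : Set M)) {x : M} (hx : x ∈ X)
    (hq : ⁅⁅V, zpowers x⁆, zpowers x⁆ = ⊥) : x ∈ Cfsg.pCore p M :=
  mem_pCore_of_unipotent hV hX hCX hx (stable hp2 hab V hV x hq)

end CfsgLib.PrimitiveStable
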