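import Cfsg.Agent.PrimitiveStable.Local
import Cfsg.Agent.PrimitiveStable.Graph

/-!
# Primitive pairs of characteristic `p` with abelian Sylow 2-subgroups do not exist

The pair is studied on its coset graph: by induction on the distance a chosen minimal normal
`p`-subgroup of each vertex lies in `O_p` of every vertex.
-/

set_option autoImplicit false
set_option linter.unusedSectionVars false

namespace CfsgLib.PrimitiveStable

open Subgroup
open scoped commutatorElement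

variable {G : Type*} [Group G] {p : ℕ}

namespace Vertex

variable [Finite G] [hp : Fact p.Prime] {H Q Z : Subgroup G} (hv : Vertex p H Q Z)
include hv

variable (hp2 : p ≠ 2) (hab : ∀ T : Sylow 2 H, IsMulCommutative T)
include hp2 hab

/-- An element of an abelian subgroup `B` with `[V, x] ⊆ B` acts quadratically. -/
theorem quad_subgroupOf {V B : Subgroup G} {x : G} (hxH : x ∈ H) (hxB : x ∈ B)
    (hVB : V ≤ normalizer (B : Set G)) (hB : ∀ u ∈ B, ∀ w ∈ B, Commute u w) :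
    ⁅⁅V.subgroupOf H, zpowers (⟨x, hxH⟩ : H)⁆, zpowers (⟨x, hxH⟩ : H)⁆ = ⊥ := by
  refine quadratic_of_le (B := B.subgroupOf H) (fun a ha y hy => ?_) fun u hu => Subtype.ext (hB u hu x hxB)
  obtain ⟨j, rfl⟩ := mem_zpowers_iff.1 hy
  show (a : G) * (x ^ j : G) * (a : G)⁻¹ * (x ^ j : G)⁻¹ ∈ B
  exact mul_mem ((mem_normalizer_iff.1 (hVB ha) _).1 (zpow_mem hxB j)) (inv_mem (zpow_mem hxB j))

theorem mem_q_of_quadratic {B : Subgroup G} {x : G} (hxH : x ∈ H) (hxB : x ∈ B)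
    (hQB : Q ≤ normalizer (B : Set G)) (hB : ∀ u ∈ B, ∀ w ∈ B, Commute u w) : x ∈ Q := by
  have hQeq : Q.subgroupOf H = Cfsg.pCore p H := by
    rw [hv.hQ]; exact comap_map_eq_self_of_injective H.subtype_injective _
  have h := hv.quad_subgroupOf hp2 hab hxH hxB hQB hB
  rw [hQeq] at h
  rw [hv.hQ]
  exact ⟨_, mem_pCore_of_quadratic hp2 hab hv.self h, rfl⟩

theorem commute_z {B : Subgroup G} {x : G} (hxH : x ∈ H) (hxB : x ∈ B)
    (hZB : Z ≤ normalizer (B : Set G)) (hB : ∀ u ∈ B, ∀ w ∈ B, Commute u w) :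
    ∀ u ∈ Z, Commute u x := by
  have hn : (Z.subgroupOf H).Normal :=
    ⟨fun z hz g => (mem_normalizer_iff.1 (hv.zn g.2) (z : G)).1 hz⟩
  have hZp : IsPGroup p (Z.subgroupOf H) :=
    (hv.q_isPGroup.to_le hv.zq).comap_of_injective H.subtype H.subtype_injective
  have hmin : ∀ A : Subgroup H, A ≤ Z.subgroupOf H → A ≠ ⊥ → A.Normal → A = Z.subgroupOf H := by
    intro A hA hA0 hAn
    have h := hv.zmin (A.map H.subtype) (map_le_iff_le_comap.2 hA)
      (fun h => hA0 ((Subgroup.map_eq_bot_iff_of_injective _ H.subtype_injective).1 h)) fun g hg => by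
        rw [mem_normalizer_iff]
        intro y
        constructor
        · rintro ⟨a, ha, rfl⟩
          exact ⟨⟨g, hg⟩ * a * ⟨g, hg⟩⁻¹, hAn.conj_mem a ha _, rfl⟩
        · rintro ⟨a, ha, hay⟩
          refine ⟨⟨g, hg⟩⁻¹ * a * ⟨g, hg⟩, by simpa using hAn.conj_mem a ha ⟨g, hg⟩⁻¹, ?_⟩
          show g⁻¹ * (H.subtype a) * g = y
          rw [hay]; group
    rw [← h]
    exact (comap_map_eq_self_of_injective H.subtype_injective A).symm
  haveI := hn
  intro u hu
  exact congrArg Subtype.val (commute_of_quadratic hp2 hab hZp hmin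
    (hv.quad_subgroupOf hp2 hab hxH hxB hZB hB) ⟨u, hv.z_le hu⟩ hu)

theorem mem_q_of_normalizes {V B X : Subgroup G} {x : G} (hVQ : V ≤ Q)
    (hVn : H ≤ normalizer (V : Set G)) (hXH : X ≤ H) (hX : IsPGroup p X) (hxX : x ∈ X)
    (hCX : H ⊓ centralizer (V : Set G) ≤ normalizer (X : Set G)) (hxB : x ∈ B)
    (hVB : V ≤ normalizer (B : Set G)) (hB : ∀ u ∈ B, ∀ w ∈ B, Commute u w) : x ∈ Q := by
  haveI : (V.subgroupOf H).Normal :=
    ⟨fun z hz g => (mem_normalizer_iff.1 (hVn g.2) (z : G)).1 hz⟩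
  have hVp : IsPGroup p (V.subgroupOf H) :=
    (hv.q_isPGroup.to_le hVQ).comap_of_injective H.subtype H.subtype_injective
  have hXp : IsPGroup p (X.subgroupOf H) := hX.comap_of_injective H.subtype H.subtype_injective
  have hC : centralizer (V.subgroupOf H : Set H) ≤ normalizer (X.subgroupOf H : Set H) := by
    intro c hc
    have hcG : (c : G) ∈ H ⊓ centralizer (V : Set G) :=
      ⟨c.2, fun v hv' => congrArg Subtype.val (hc ⟨v, (hVQ.trans hv.q_le) hv'⟩ hv')⟩
    rw [mem_normalizer_iff]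
    intro y
    exact mem_normalizer_iff.1 (hCX hcG) (y : G)
  rw [hv.hQ]
  exact ⟨_, mem_pCore_of_normalizes hp2 hab hVp hXp hC (x := ⟨x, hXH hxX⟩) hxX
    (hv.quad_subgroupOf hp2 hab (hXH hxX) hxB hVB hB), rfl⟩

end Vertex

namespace Pair

variable {M Qs Zs : Bool → Subgroup G} [Finite G] [hp : Fact p.Prime] (P : Pair p M Qs Zs)
include P

theorem ab_vert (hab : ∀ b, ∀ T : Sylow 2 (M b), IsMulCommutative T) (v : Bool × G) :
    ∀ T : Sylow 2 (conjS v.2 (M v.1)), IsMulCommutative T := by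
  intro T
  let e : M v.1 ≃* conjS v.2 (M v.1) := (M v.1).equivMapOfInjective _ (MulAut.conj v.2).injective
  let T' : Sylow 2 (M v.1) := T.mapSurjective (f := e.symm.toMonoidHom) e.symm.surjective
  have h := hab v.1 T'
  refine ⟨⟨fun u w => Subtype.ext (e.symm.injective ?_)⟩⟩
  have h' := congrArg Subtype.val (h.is_comm.comm ⟨e.symm u, ⟨u, u.2, rfl⟩⟩ ⟨e.symm w, ⟨w, w.2, rfl⟩⟩)
  show e.symm ((u : conjS v.2 (M v.1)) * w) = e.symm (w * u)
  rw [map_mul, map_mul]
  exact h'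

variable (hp2 : p ≠ 2) (hab : ∀ b, ∀ T : Sylow 2 (M b), IsMulCommutative T)
include hp2 hab

/-- All chosen minimal normal subgroups lie in all cores. -/
theorem z_le_q : ∀ (n : ℕ) (v w : Bool × G), Walk M n v w →
    conjS v.2 (Zs v.1) ≤ conjS w.2 (Qs w.1) := by
  intro n
  induction n using Nat.strong_induction_on with
  | _ n ih =>
  intro α α' hW
  rcases n with _ | r
  · rw [← show α = α' from hW]
    exact (P.vert α).zq
  -- elements within distance `r + 1` are in the group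
  have hgrp : ∀ m ≤ r, ∀ γ γ', Walk M (m + 1) γ γ' → conjS γ.2 (Zs γ.1) ≤ conjS γ'.2 (M γ'.1) := by
    intro m hm γ γ' h
    obtain ⟨δ, hγδ, hδ⟩ := walk_succ_right.1 h
    exact (ih m (by omega) γ δ hγδ).trans (P.q_le_adj hδ)
  have hcomm : ∀ m ≤ r, ∀ γ γ', Walk M (m + 1) γ γ' →
      ∀ u ∈ conjS γ.2 (Zs γ.1), ∀ x ∈ conjS γ'.2 (Zs γ'.1), Commute u x := by
    intro m hm γ γ' h u hu x hx
    exact (P.vert γ).commute_z hp2 (P.ab_vert hab γ) (hgrp m hm γ' γ h.symm hx) hx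
      ((hgrp m hm γ γ' h).trans (P.vert γ').zn) (P.vert γ').z_comm u hu
  rcases r with _ | r
  · -- adjacent
    obtain ⟨w, hadj, hw⟩ := hW
    obtain rfl : w = α' := hw
    intro x hx
    exact (P.vert w).mem_q_of_quadratic hp2 (P.ab_vert hab w) (hgrp 0 le_rfl α w ⟨w, hadj, rfl⟩ hx) hx
      ((P.q_le_adj hadj.symm).trans (P.vert α).zn) (P.vert α).z_comm
  obtain ⟨β, hαβ, hβ⟩ := hW
  obtain ⟨δ, hαδ, hδ⟩ := walk_succ_right.1 (show Walk M (r + 1 + 1) α α' from ⟨β, hαβ, hβ⟩)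
  let S : Bool × G → Set G := fun v =>
    {x | ∃ γ, Adj M γ v ∧ x ∈ conjS γ.2 (Zs γ.1)}
  -- the span of the neighbours is normal
  have hnorm : ∀ v : Bool × G, conjS v.2 (M v.1) ≤ normalizer (closure (S v) : Set G) := by
    intro v g hg
    obtain ⟨h, rfl⟩ : ∃ h, g = v.2 * h * v.2⁻¹ := ⟨v.2⁻¹ * g * v.2, by group⟩
    have hh : h ∈ M v.1 := by simpa [mul_assoc] using mem_conjS.1 hg
    have hle : ∀ h ∈ M v.1, ∀ x ∈ closure (S v),
        v.2 * h * v.2⁻¹ * x * (v.2 * h * v.2⁻¹)⁻¹ ∈ closure (S v) := by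
      intro h hh x hx
      have hsub : closure (S v) ≤ (closure (S v)).comap (MulAut.conj (v.2 * h * v.2⁻¹)).toMonoidHom := by
        refine (closure_le _).2 ?_
        rintro y ⟨γ, ⟨h1, a, ha, c, hc, h2⟩, hy⟩
        refine subset_closure ⟨(γ.1, v.2 * h * v.2⁻¹ * γ.2),
          ⟨h1, a, ha, h * c, mul_mem hh hc, ?_⟩, ?_⟩
        · show v.2 * h * v.2⁻¹ * γ.2 * a = v.2 * (h * c)
          rw [mul_assoc _ γ.2, h2]; group
        · show _ ∈ conjS (v.2 * h * v.2⁻¹ * γ.2) (Zs γ.1)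
          rw [← conjS_conjS]
          exact mem_map_of_mem _ hy
      exact hsub hx
    rw [mem_normalizer_iff]
    refine fun x => ⟨hle h hh x, fun hx => ?_⟩
    have := hle h⁻¹ (inv_mem hh) _ hx
    simpa [mul_assoc] using this
  have hSabel : ∀ v : Bool × G, ∀ u ∈ closure (S v), ∀ w ∈ closure (S v), Commute u w := by
    intro v
    have h := Subgroup.isMulCommutative_closure (k := S v) (by
      rintro u ⟨γ, hγ, hu⟩ w ⟨γ', hγ', hw⟩
      exact hcomm 1 (by omega) γ γ' ⟨v, hγ, γ', hγ'.symm, rfl⟩ u hu w hw)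
    intro u hu w hw
    exact congrArg Subtype.val (h.is_comm.comm ⟨u, hu⟩ ⟨w, hw⟩)
  intro x hx
  refine (P.vert α').mem_q_of_normalizes hp2 (P.ab_vert hab α') (V := closure (S α')) (B := closure (S β))
    (X := conjS δ.2 (Qs δ.1)) ((closure_le _).2 ?_) (hnorm α') (P.q_le_adj hδ) (P.vert δ).q_isPGroup
    (ih (r + 1) (by omega) α δ hαδ hx) ?_ (subset_closure ⟨α, hαβ, hx⟩)
    (((closure_le _).2 ?_).trans (hnorm β)) (hSabel β)
  · rintro y ⟨γ, hγ, hy⟩
    exact ih 1 (by omega) γ α' ⟨α', hγ, rfl⟩ hy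
  · intro y hy
    refine (P.vert δ).q_norm (P.normalizer_inf_le hδ ⟨hy.1, ?_⟩)
    have hsub : (conjS δ.2 (Zs δ.1) : Set G) ⊆ (closure (S α') : Set G) :=
      fun z hz => subset_closure ⟨δ, hδ, hz⟩
    exact centralizer_le_normalizer _ (Subgroup.centralizer_le hsub hy.2)
  · rintro y ⟨γ, hγ, hy⟩
    exact hgrp (r + 1) le_rfl γ β (Walk.symm (Walk.append hβ ⟨γ, hγ.symm, rfl⟩)) hy

/-- There is no such pair. -/
theorem false_of_pair : False := P.false_of_z_le (P.z_le_q hp2 hab)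

end Pair

end CfsgLib.PrimitiveStable
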